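import Cfsg.Agent.TwoGenClassical.Frame

/-!
Two-generation of classical groups: the cyclic monomial element of a hyperbolic frame and the
consequences of one pair root group together with that element.
-/

set_option autoImplicit false
set_option linter.unusedSectionVars false
set_option linter.style.haveILetI false

namespace CfsgLib.TwoGenClassical

open scoped Matrix

variable {F : Type*} [Field F] {ι : Type} [Fintype ι] [DecidableEq ι] {G : Type*} [Group G]

/-- The permutation induced by a Weyl element of a pair root. -/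
def perm4 {n : ℕ} (p r w : Idx n) : Idx n :=
  if w = p then r else if w = r then p else if w = opp p then opp r else if w = opp r then opp p else w

/-- The position on the `2n`-cycle. -/
def pos (n : ℕ) [NeZero n] (k : ℕ) : Idx n :=
  if k % (2 * n) < n then .inl (Fin.ofNat n (k % (2 * n))) else .inr (Fin.ofNat n (k % (2 * n) - n))

theorem mod_lt' (n k : ℕ) [NeZero n] : k % (2 * n) < 2 * n :=
  Nat.mod_lt _ (by have := NeZero.pos n; omega)

theorem pos_lt {n k : ℕ} [NeZero n] (h : k % (2 * n) < n) : pos n k = .inl ⟨k % (2 * n), h⟩ := by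
  rw [pos, if_pos h]
  congr 1
  exact Fin.ext (Nat.mod_eq_of_lt h)

theorem pos_ge {n k : ℕ} [NeZero n] (h : n ≤ k % (2 * n)) :
    pos n k = .inr ⟨k % (2 * n) - n, by have := mod_lt' n k; omega⟩ := by
  rw [pos, if_neg (by omega)]
  congr 1
  exact Fin.ext (Nat.mod_eq_of_lt (by have := mod_lt' n k; omega))

theorem pos_eq_iff {n k l : ℕ} [NeZero n] : pos n k = pos n l ↔ k % (2 * n) = l % (2 * n) := by
  constructor
  · intro h
    rcases lt_or_ge (k % (2 * n)) n with h1 | h1 <;> rcases lt_or_ge (l % (2 * n)) n with h2 | h2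
    · rw [pos_lt h1, pos_lt h2] at h; simpa using h
    · rw [pos_lt h1, pos_ge h2] at h; simp at h
    · rw [pos_ge h1, pos_lt h2] at h; simp at h
    · rw [pos_ge h1, pos_ge h2] at h
      simp only [Sum.inr.injEq, Fin.mk.injEq] at h
      omega
  · intro h
    rw [pos, pos, h]

theorem pos_opp {n : ℕ} [NeZero n] (k : ℕ) : opp (pos n k) = pos n (k + n) := by
  have := mod_lt' n k
  have hn := NeZero.pos n
  rcases lt_or_ge (k % (2 * n)) n with h | h
  · have e : (k + n) % (2 * n) = k % (2 * n) + n := by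
      rw [Nat.add_mod, Nat.mod_eq_of_lt (show n < 2 * n by omega), Nat.mod_eq_of_lt (by omega)]
    rw [pos_lt h, pos_ge (by omega)]
    simp [opp, e]
  · have e : (k + n) % (2 * n) = k % (2 * n) - n := by
      rw [Nat.add_mod, Nat.mod_eq_of_lt (show n < 2 * n by omega), Nat.mod_eq_sub_mod (by omega),
        Nat.mod_eq_of_lt (by omega)]
      omega
    rw [pos_ge h, pos_lt (by omega)]
    simp [opp, e]

theorem pos_surj {n : ℕ} [NeZero n] (p : Idx n) : ∃ k < 2 * n, pos n k = p := by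
  rcases p with i | i
  · have hi := i.isLt
    refine ⟨i, by omega, ?_⟩
    have e : (i : ℕ) % (2 * n) = i := Nat.mod_eq_of_lt (by omega)
    rw [pos_lt (by omega)]
    simp [e]
  · have hi := i.isLt
    refine ⟨i + n, by omega, ?_⟩
    have e : ((i : ℕ) + n) % (2 * n) = i + n := Nat.mod_eq_of_lt (by omega)
    rw [pos_ge (by omega)]
    simp [e]

theorem pos_add_period {n : ℕ} [NeZero n] (k : ℕ) : pos n (k + 2 * n) = pos n k :=
  pos_eq_iff.2 (Nat.add_mod_right _ _)

theorem add_mod_cases {a b m : ℕ} (ha : a < m) (hb : b < m) :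
    ((a + b) % m = a + b ∧ a + b < m) ∨ ((a + b) % m = a + b - m ∧ m ≤ a + b) := by
  rcases lt_or_ge (a + b) m with h | h
  · exact Or.inl ⟨Nat.mod_eq_of_lt h, h⟩
  · exact Or.inr ⟨by rw [Nat.mod_eq_sub_mod h, Nat.mod_eq_of_lt (by omega)], h⟩

theorem pos_far {n : ℕ} [NeZero n] {k d : ℕ} (h1 : d % (2 * n) ≠ 0) (h2 : d % (2 * n) ≠ n) :
    Far (pos n k) (pos n (k + d)) := by
  have := mod_lt' n k
  have := mod_lt' n d
  have hn := NeZero.pos n
  constructor
  · rw [Ne, pos_eq_iff, Nat.add_mod]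
    intro h
    rcases add_mod_cases (mod_lt' n k) (mod_lt' n d) with ⟨e, he⟩ | ⟨e, he⟩ <;> rw [e] at h <;> omega
  · rw [pos_opp, Ne, pos_eq_iff, Nat.add_mod, Nat.add_mod k n, Nat.mod_eq_of_lt (show n < 2 * n by omega)]
    intro h
    rcases add_mod_cases (mod_lt' n k) (mod_lt' n d) with ⟨e, he⟩ | ⟨e, he⟩ <;>
      rcases add_mod_cases (mod_lt' n k) (show n < 2 * n by omega) with ⟨e', he'⟩ | ⟨e', he'⟩ <;>
      rw [e, e'] at h <;> omega

theorem cyc_step (i k : ℕ) :
    (if (if i < k then i + 1 else if i = k then 0 else i) = 0 then k + 1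
      else if (if i < k then i + 1 else if i = k then 0 else i) = k + 1 then 0
      else if i < k then i + 1 else if i = k then 0 else i) =
    if i < k + 1 then i + 1 else if i = k + 1 then 0 else i := by
  rcases lt_trichotomy i k with h | h | h <;> rcases lt_trichotomy i (k + 1) with h' | h' | h' <;>
    simp (disch := omega) only [if_pos, if_neg] <;> (repeat' split_ifs) <;> omega

theorem perm4_inl {n : ℕ} (a b w : Fin n) :
    perm4 (Sum.inl a) (Sum.inl b) (Sum.inl w) = Sum.inl (if w = a then b else if w = b then a else w) := by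
  simp only [perm4, Sum.inl.injEq]
  split_ifs <;> simp_all [opp]

theorem perm4_inr {n : ℕ} (a b w : Fin n) :
    perm4 (Sum.inl a) (Sum.inl b) (Sum.inr w) = Sum.inr (if w = a then b else if w = b then a else w) := by
  simp only [perm4, opp, Sum.swap_inl, reduceCtorEq, if_false, Sum.inr.injEq]
  split_ifs <;> rfl

namespace Frame

variable {n : ℕ} (Φ : Frame F ι G n)

theorem W_maps {p r : Idx n} (h : Far p r) (w : Idx n) : Φ.Maps (Φ.W p r 1) w (perm4 p r w) := by
  unfold perm4
  have hu1 : Φ.upCo p r 1 ≠ 0 :=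
    left_ne_zero_of_mul (b := Φ.upCo r p (-(1 : F)⁻¹)) (by rw [Φ.upCo_mul one_ne_zero]; simp)
  have hu2 : Φ.upCo r p (-(1 : F)⁻¹) ≠ 0 :=
    right_ne_zero_of_mul (a := Φ.upCo p r 1) (by rw [Φ.upCo_mul one_ne_zero]; simp)
  by_cases h1 : w = p
  · rw [if_pos h1, h1]
    exact ⟨-(1 : F)⁻¹, by simp, Φ.W_left h one_ne_zero⟩
  by_cases h2 : w = r
  · rw [if_neg h1, if_pos h2, h2]
    exact ⟨1, one_ne_zero, Φ.W_right h one_ne_zero⟩
  by_cases h3 : w = opp p
  · rw [if_neg h1, if_neg h2, if_pos h3, h3]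
    exact ⟨_, hu1, Φ.W_opp_left h one_ne_zero⟩
  by_cases h4 : w = opp r
  · rw [if_neg h1, if_neg h2, if_neg h3, if_pos h4, h4]
    exact ⟨_, hu2, Φ.W_opp_right h one_ne_zero⟩
  rw [if_neg h1, if_neg h2, if_neg h3, if_neg h4]
  exact ⟨1, one_ne_zero, by rw [one_smul]; exact Φ.W_fix h 1 h1 h2 h3 h4⟩

/-- A monomial element inducing a cycle on both halves of the frame. -/
def cyc [NeZero n] : ℕ → G
  | 0 => 1
  | k + 1 => if h : k + 1 < n then Φ.W (.inl 0) (.inl ⟨k + 1, h⟩) 1 * cyc k else cyc k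

theorem cyc_maps [NeZero n] : ∀ k, k < n → ∀ i j : Fin n,
    j.val = (if i.val < k then i.val + 1 else if i.val = k then 0 else i.val) →
      Φ.Maps (Φ.cyc k) (.inl i) (.inl j) ∧ Φ.Maps (Φ.cyc k) (.inr i) (.inr j) := by
  intro k
  induction k with
  | zero =>
    intro _ i j hj
    obtain rfl : i = j := Fin.ext (by split_ifs at hj <;> omega)
    exact ⟨Φ.maps_one _, Φ.maps_one _⟩
  | succ k ih =>
    intro hk i j hj
    rw [cyc, dif_pos hk]
    let l : Fin n := ⟨if i.val < k then i.val + 1 else if i.val = k then 0 else i.val, by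
      have := i.isLt; split_ifs <;> omega⟩
    obtain ⟨h1, h2⟩ := ih (by omega) i l rfl
    have hfar : Far (Sum.inl (0 : Fin n)) (Sum.inl (⟨k + 1, hk⟩ : Fin n)) :=
      ⟨by simp [Fin.ext_iff], by simp [opp]⟩
    have key : (if l = 0 then (⟨k + 1, hk⟩ : Fin n) else if l = ⟨k + 1, hk⟩ then 0 else l) = j := by
      apply Fin.ext
      simp only [l, Fin.ext_iff, Fin.val_zero, apply_ite Fin.val, hj]
      exact cyc_step i.val k
    have e1 : perm4 (Sum.inl (0 : Fin n)) (Sum.inl ⟨k + 1, hk⟩) (Sum.inl l) = Sum.inl j := by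
      rw [perm4_inl, key]
    have e2 : perm4 (Sum.inl (0 : Fin n)) (Sum.inl ⟨k + 1, hk⟩) (Sum.inr l) = Sum.inr j := by
      rw [perm4_inr, key]
    refine ⟨h1.trans Φ ?_, h2.trans Φ ?_⟩
    · exact e1 ▸ Φ.W_maps hfar _
    · exact e2 ▸ Φ.W_maps hfar _

theorem cyc_perp [NeZero n] {x : ι → F} (hx : Φ.Perp x) : ∀ k, Φ.v (Φ.cyc k) x = x := by
  intro k
  induction k with
  | zero => simp [cyc]
  | succ k ih =>
    rw [cyc]
    split_ifs with h
    · rw [v_mul, ih, Φ.W_perp ⟨by simp [Fin.ext_iff], by simp [opp]⟩ _ hx]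
    · exact ih

/-- A flip of the last hyperbolic pair. -/
structure IsFlip [NeZero n] (g : G) : Prop where
  left : ∀ i : Fin n, Φ.Maps g (.inl i) (if i.val + 1 = n then .inr i else .inl i)
  right : ∀ i : Fin n, Φ.Maps g (.inr i) (if i.val + 1 = n then .inl i else .inr i)

/-- `g` moves each position to the next one. -/
def IsShift [NeZero n] (g : G) : Prop := ∀ k, Φ.Maps g (pos n k) (pos n (k + 1))

theorem isShift_cyc_flip [NeZero n] {g : G} (hg : Φ.IsFlip g) : Φ.IsShift (Φ.cyc (n - 1) * g) := by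
  intro k
  have hn := NeZero.pos n
  have hlt := mod_lt' n k
  have hc := Φ.cyc_maps (n - 1) (by omega)
  rcases lt_or_ge (k % (2 * n)) n with h | h
  · rw [pos_lt h]
    refine Maps.trans Φ (hg.left _) ?_
    by_cases he : k % (2 * n) + 1 = n
    · rw [if_pos he]
      have e : (k + 1) % (2 * n) = n := by
        rw [Nat.add_mod, Nat.mod_eq_of_lt (show 1 < 2 * n by omega), Nat.mod_eq_of_lt (by omega), he]
      rw [pos_ge (by omega)]
      exact (hc _ _ (by simp only [e]; split_ifs <;> omega)).2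
    · rw [if_neg he]
      have e : (k + 1) % (2 * n) = k % (2 * n) + 1 := by
        rw [Nat.add_mod, Nat.mod_eq_of_lt (show 1 < 2 * n by omega), Nat.mod_eq_of_lt (by omega)]
      rw [pos_lt (by omega)]
      exact (hc _ _ (by simp only [e]; split_ifs <;> omega)).1
  · rw [pos_ge h]
    refine Maps.trans Φ (hg.right _) ?_
    by_cases he : k % (2 * n) - n + 1 = n
    · rw [if_pos he]
      have e : (k + 1) % (2 * n) = 0 := by
        rw [Nat.add_mod, Nat.mod_eq_of_lt (show 1 < 2 * n by omega),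
          show k % (2 * n) + 1 = 2 * n by omega, Nat.mod_self]
      rw [pos_lt (by omega)]
      exact (hc _ _ (by simp only [e]; split_ifs <;> omega)).1
    · rw [if_neg he]
      have e : (k + 1) % (2 * n) = k % (2 * n) + 1 := by
        rw [Nat.add_mod, Nat.mod_eq_of_lt (show 1 < 2 * n by omega), Nat.mod_eq_of_lt (by omega)]
      rw [pos_ge (by omega)]
      exact (hc _ _ (by simp only [e]; split_ifs <;> omega)).2

theorem IsShift.onto [NeZero n] {g : G} (hg : Φ.IsShift g) (q : Idx n) : ∃ p, Φ.Maps g p q := by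
  obtain ⟨k, -, rfl⟩ := pos_surj q
  refine ⟨pos n (k + (2 * n - 1)), ?_⟩
  have := hg (k + (2 * n - 1))
  have hn := NeZero.pos n
  rwa [show k + (2 * n - 1) + 1 = k + 2 * n by omega, pos_add_period] at this

theorem P_shift [NeZero n] {S : Subgroup G} {g : G} (hg : Φ.IsShift g) (hgS : g ∈ S) {a b : ℕ}
    (hf : Far (pos n a) (pos n b)) (h : Φ.P S (pos n a) (pos n b)) :
    ∀ j, Far (pos n (a + j)) (pos n (b + j)) ∧ Φ.P S (pos n (a + j)) (pos n (b + j)) := by
  intro j
  induction j with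
  | zero => exact ⟨hf, h⟩
  | succ j ih =>
    exact ⟨Φ.maps_far (hg _) (hg _) ih.1, Φ.P_conj hgS ih.1 (hg _) (hg _) ih.2⟩

/-- The first pair root group and a shift give every pair root group. -/
theorem P_all [NeZero n] {S : Subgroup G} {g : G} (hg : Φ.IsShift g) (hgS : g ∈ S) (hn : 2 ≤ n)
    (h0 : Φ.P S (pos n 0) (pos n (n + 1))) : ∀ p q, Far p q → Φ.P S p q := by
  have h1n : ∀ d, 1 ≤ d → d < n → (n + d) % (2 * n) ≠ 0 ∧ (n + d) % (2 * n) ≠ n := fun d h1 h2 => by
    rw [Nat.mod_eq_of_lt (by omega)]; omega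
  have hfar : ∀ k d, 1 ≤ d → d < n → Far (pos n k) (pos n (k + (n + d))) :=
    fun k d h1 h2 => pos_far (h1n d h1 h2).1 (h1n d h1 h2).2
  have base : ∀ k, Φ.P S (pos n k) (pos n (k + (n + 1))) := fun k => by
    have := (Φ.P_shift hg hgS (a := 0) (b := n + 1) (by simpa using hfar 0 1 le_rfl (by omega)) h0 k).2
    rwa [zero_add, add_comm (n + 1)] at this
  have step : ∀ d, 1 ≤ d → d < n → ∀ k, Φ.P S (pos n k) (pos n (k + (n + d))) := by
    intro d
    induction d with
    | zero => omega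
    | succ d ih =>
      intro _ hd k
      rcases Nat.eq_zero_or_pos d with rfl | hd1
      · exact base k
      have hab : Far (pos n k) (opp (pos n (k + d))) := by
        rw [pos_opp, add_assoc, add_comm d n]; exact hfar k d hd1 (by omega)
      have hbc : Far (pos n (k + d)) (pos n (k + (n + (d + 1)))) := by
        rw [show k + (n + (d + 1)) = k + d + (n + 1) by omega]; exact hfar _ 1 le_rfl (by omega)
      refine Φ.P_comp hab hbc (hfar k (d + 1) (by omega) hd) ?_ ?_
      · rw [pos_opp, add_assoc, add_comm d n]; exact ih hd1 (by omega) k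
      · rw [show k + (n + (d + 1)) = k + d + (n + 1) by omega]; exact base _
  intro p q hpq
  obtain ⟨k, hk, rfl⟩ := pos_surj p
  obtain ⟨l, hl, rfl⟩ := pos_surj q
  obtain ⟨e, he, hle⟩ : ∃ e, e < 2 * n ∧ pos n l = pos n (k + e) := by
    rcases le_or_gt k l with h | h
    · exact ⟨l - k, by omega, by rw [Nat.add_sub_cancel' h]⟩
    · exact ⟨l + 2 * n - k, by omega, by
        rw [show k + (l + 2 * n - k) = l + 2 * n by omega, pos_add_period]⟩
  rw [hle] at hpq ⊢
  have he0 : e ≠ 0 := fun h => hpq.1 (by rw [h, add_zero])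
  have hen : e ≠ n := fun h => hpq.2 (by rw [h, pos_opp])
  rcases lt_or_ge n e with h | h
  · rw [show e = n + (e - n) by omega]
    exact step (e - n) (by omega) (by omega) k
  · have := step (n - e) (by omega) (by omega) (k + e)
    rw [show k + e + (n + (n - e)) = k + 2 * n by omega, pos_add_period] at this
    exact Φ.P_swap hpq.symm this

/-- Pair root groups clear all but one pair of coordinates. -/
theorem exists_clear {S : Subgroup G} (hS : ∀ p q, Far p q → Φ.P S p q) {y : ι → F} {p : Idx n}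
    (hy : Φ.B y (Φ.z p) ≠ 0) :
    ∃ g ∈ S, Φ.B (Φ.v g y) (Φ.z p) = Φ.B y (Φ.z p) ∧ (∀ q, Far p q → Φ.B (Φ.v g y) (Φ.z q) = 0) ∧
      ∀ u, Φ.Perp u → Φ.B (Φ.v g y) u = Φ.B y u := by
  classical
  suffices h : ∀ T : Finset (Idx n), ∃ g ∈ S, Φ.B (Φ.v g y) (Φ.z p) = Φ.B y (Φ.z p) ∧
      (∀ q ∈ T, Far p q → Φ.B (Φ.v g y) (Φ.z q) = 0) ∧ ∀ u, Φ.Perp u → Φ.B (Φ.v g y) u = Φ.B y u by
    obtain ⟨g, hg, h1, h2, h3⟩ := h Finset.univ
    exact ⟨g, hg, h1, fun q hq => h2 q (Finset.mem_univ q) hq, h3⟩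
  intro T
  induction T using Finset.induction with
  | empty => exact ⟨1, S.one_mem, by simp, by simp, fun u _ => by simp⟩
  | insert q T hqT ih =>
    obtain ⟨g, hg, h1, h2, h3⟩ := ih
    by_cases hq : Far p q
    swap
    · refine ⟨g, hg, h1, fun r hr hpr => ?_, h3⟩
      rcases Finset.mem_insert.1 hr with rfl | hr
      · exact absurd hpr hq
      · exact h2 r hr hpr
    have hr := hq.oppR
    refine ⟨Φ.X p (opp q) (-(Φ.B (Φ.v g y) (Φ.z q)) / (Φ.B y (Φ.z p) * pairVal Φ.ε (opp q))) * g,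
      S.mul_mem (hS p _ hr _) hg, ?_, fun r hr' hpr => ?_, fun u hu => ?_⟩
    · rw [v_mul, X_v _ hr, sub_left, Φ.add_left, Φ.smul_left, Φ.smul_left,
        Φ.pair_zero hr.symm.2, Φ.pair_zero (opp_ne p).symm, h1]
      ring
    · rw [v_mul, X_v _ hr, sub_left, Φ.add_left, Φ.smul_left, Φ.smul_left, h1, Φ.pair_zero hpr.2]
      by_cases hrq : r = q
      · subst hrq
        rw [Φ.pair_opp']
        have := Φ.pairVal_ne (opp r)
        field_simp
        ring
      · rw [Φ.pair_zero (by rw [opp_opp]; exact hrq)]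
        rcases Finset.mem_insert.1 hr' with h | h
        · exact absurd h hrq
        · rw [h2 r h hpr]; ring
    · have hp : Φ.B (Φ.z p) u = 0 := by rw [Φ.swap, hu p]; simp
      have hq' : Φ.B (Φ.z (opp q)) u = 0 := by rw [Φ.swap, hu]; simp
      rw [v_mul, X_v _ hr, sub_left, Φ.add_left, Φ.smul_left, Φ.smul_left, hp, hq', h3 u hu]
      ring

/-- Eigenvalues move along a conjugation. -/
theorem conj_eigen {g h : G} {p p' : Idx n} (hg : Φ.Maps g p p') {c : F} (hh : Φ.v h (Φ.z p) = c • Φ.z p) :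
    Φ.v (g * h * g⁻¹) (Φ.z p') = c • Φ.z p' := by
  obtain ⟨a, ha, e⟩ := hg
  have : Φ.z p' = a⁻¹ • Φ.v g (Φ.z p) := by rw [e, smul_smul, inv_mul_cancel₀ ha, one_smul]
  rw [this, v_smul, v_mul, v_mul, v_inv, hh, v_smul, smul_comm]

theorem conj_perp {g h : G} {x : ι → F} (hg : Φ.v g x = x) (hh : Φ.v h x = x) :
    Φ.v (g * h * g⁻¹) x = x := by
  conv_lhs => rw [← hg, v_mul, v_mul, v_inv, hh, hg]

/-- Two elements diagonal on the frame commute if they commute on the perpendicular space. -/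
theorem commute_of_eigen {g h : G} (a b : Idx n → F) (hg : ∀ p, Φ.v g (Φ.z p) = a p • Φ.z p)
    (hh : ∀ p, Φ.v h (Φ.z p) = b p • Φ.z p)
    (hp : ∀ x, Φ.Perp x → Φ.v g (Φ.v h x) = Φ.v h (Φ.v g x)) : g * h = h * g := by
  refine Φ.ext_frame (fun p => ?_) fun x hx => ?_
  · rw [v_mul, v_mul, hh, v_smul, hg, v_smul, hh, smul_smul, smul_smul, mul_comm]
  · rw [v_mul, v_mul, hp x hx]

end Frame

end CfsgLib.TwoGenClassical
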