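import Cfsg.Agent.TwoGenClassical.Basic

/-!
Two-generation of classical groups: the common combinatorics of a hyperbolic frame in a
sesquilinear space, its pair root elements, and the cyclic monomial element.
-/

set_option autoImplicit false
set_option linter.unusedSectionVars false
set_option linter.style.haveILetI false

namespace CfsgLib.TwoGenClassical

open scoped Matrix

variable {F : Type*} [Field F] {ι : Type} [Fintype ι] [DecidableEq ι] {G : Type*} [Group G]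

/-- Indices of a hyperbolic frame. -/
abbrev Idx (n : ℕ) : Type := Fin n ⊕ Fin n

/-- The opposite index. -/
def opp {n : ℕ} (p : Idx n) : Idx n := Sum.swap p

/-- The value of a hermitian-type form on an opposite pair. -/
def pairVal {n : ℕ} (ε : F) (p : Idx n) : F := Sum.elim (fun _ => 1) (fun _ => ε) p

@[simp] theorem opp_opp {n : ℕ} (p : Idx n) : opp (opp p) = p := Sum.swap_swap p

theorem opp_ne {n : ℕ} (p : Idx n) : opp p ≠ p := by cases p <;> simp [opp]

theorem opp_eq_iff {n : ℕ} {p q : Idx n} : opp p = q ↔ p = opp q :=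
  ⟨fun h => by rw [← h, opp_opp], fun h => by rw [h, opp_opp]⟩

/-- Two indices spanning a root: neither equal nor opposite. -/
def Far {n : ℕ} (p q : Idx n) : Prop := q ≠ p ∧ q ≠ opp p

theorem Far.symm {n : ℕ} {p q : Idx n} (h : Far p q) : Far q p :=
  ⟨fun e => h.1 e.symm, fun e => h.2 (by rw [e, opp_opp])⟩

theorem Far.oppR {n : ℕ} {p q : Idx n} (h : Far p q) : Far p (opp q) :=
  ⟨fun e => h.2 (opp_eq_iff.1 e), fun e => h.1 (by simpa using congrArg opp e)⟩

theorem Far.oppL {n : ℕ} {p q : Idx n} (h : Far p q) : Far (opp p) q :=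
  ⟨h.2, fun e => h.1 (by rwa [opp_opp] at e)⟩

/-- A group acting on a sesquilinear space with a hyperbolic frame and its pair root elements. -/
structure Frame (F : Type*) [Field F] (ι : Type) [Fintype ι] [DecidableEq ι] (G : Type*) [Group G]
    (n : ℕ) where
  z : Idx n → ι → F
  B : (ι → F) → (ι → F) → F
  σ : F →+* F
  ε : F
  act : G →* GL ι F
  inj : Function.Injective act
  sigma_sigma : ∀ a, σ (σ a) = a
  eps_sq : ε * ε = 1
  sigma_eps : σ ε = ε
  add_left : ∀ x x' y, B (x + x') y = B x y + B x' y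
  smul_left : ∀ (a : F) x y, B (a • x) y = a * B x y
  swap : ∀ x y, B y x = ε * σ (B x y)
  pairing : ∀ p q, B (z p) (z q) = if q = opp p then pairVal ε p else 0
  iso : ∀ g x y, B ((act g : Matrix ι ι F) *ᵥ x) ((act g : Matrix ι ι F) *ᵥ y) = B x y
  X : Idx n → Idx n → F → G
  X_act : ∀ p q t x, Far p q → (act (X p q t) : Matrix ι ι F) *ᵥ x =
    x + (t * B x (z p)) • z q - (ε * σ t * B x (z q)) • z p

namespace Frame

variable {n : ℕ} (Φ : Frame F ι G n)

local notation "V" => Φ.z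
local notation "s" => pairVal (Frame.ε Φ)

/-- The action on vectors. -/
def v (g : G) (x : ι → F) : ι → F := (Φ.act g : Matrix ι ι F) *ᵥ x

theorem v_mul (g h : G) (x : ι → F) : Φ.v (g * h) x = Φ.v g (Φ.v h x) := by
  simp [v, Matrix.mulVec_mulVec]

@[simp] theorem v_one (x : ι → F) : Φ.v 1 x = x := by simp [v]

theorem v_inv (g : G) (x : ι → F) : Φ.v g⁻¹ (Φ.v g x) = x := by
  rw [← v_mul, inv_mul_cancel, v_one]

theorem v_surj (g : G) (x : ι → F) : ∃ y, Φ.v g y = x :=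
  ⟨Φ.v g⁻¹ x, by rw [← v_mul, mul_inv_cancel, v_one]⟩

theorem v_add (g : G) (x y : ι → F) : Φ.v g (x + y) = Φ.v g x + Φ.v g y := Matrix.mulVec_add _ _ _

theorem v_sub (g : G) (x y : ι → F) : Φ.v g (x - y) = Φ.v g x - Φ.v g y := Matrix.mulVec_sub _ _ _

theorem v_smul (g : G) (a : F) (x : ι → F) : Φ.v g (a • x) = a • Φ.v g x := Matrix.mulVec_smul _ _ _

theorem v_sum (g : G) {α : Type*} (t : Finset α) (f : α → ι → F) :
    Φ.v g (∑ i ∈ t, f i) = ∑ i ∈ t, Φ.v g (f i) :=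
  map_sum (Matrix.mulVecLin (Φ.act g : Matrix ι ι F)) f t

theorem ext_v {g h : G} (H : ∀ x, Φ.v g x = Φ.v h x) : g = h :=
  Φ.inj (Units.ext (Matrix.ext_of_mulVec_single fun _ => H _))

theorem iso_v (g : G) (x y : ι → F) : Φ.B (Φ.v g x) (Φ.v g y) = Φ.B x y := Φ.iso g x y

theorem add_right (x y y' : ι → F) : Φ.B x (y + y') = Φ.B x y + Φ.B x y' := by
  rw [Φ.swap _ x, Φ.add_left, map_add, mul_add, ← Φ.swap, ← Φ.swap]

theorem smul_right (a : F) (x y : ι → F) : Φ.B x (a • y) = Φ.σ a * Φ.B x y := by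
  rw [Φ.swap _ x, Φ.smul_left, map_mul, mul_left_comm, ← Φ.swap]

theorem zero_left (y : ι → F) : Φ.B 0 y = 0 := by simpa using Φ.smul_left 0 0 y

theorem zero_right (x : ι → F) : Φ.B x 0 = 0 := by rw [Φ.swap, zero_left, map_zero, mul_zero]

theorem sub_left (x x' y : ι → F) : Φ.B (x - x') y = Φ.B x y - Φ.B x' y := by
  have := Φ.add_left (x - x') x' y
  rw [sub_add_cancel] at this
  rw [this, add_sub_cancel_right]

theorem sum_left {α : Type*} (t : Finset α) (f : α → ι → F) (y : ι → F) :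
    Φ.B (∑ i ∈ t, f i) y = ∑ i ∈ t, Φ.B (f i) y := by
  classical
  induction t using Finset.induction with
  | empty => simp [zero_left]
  | insert a u ha ih => rw [Finset.sum_insert ha, Finset.sum_insert ha, Φ.add_left, ih]

theorem eps_ne : Φ.ε ≠ 0 := fun h => by simpa [h] using Φ.eps_sq

theorem pairVal_ne (p : Idx n) : s p ≠ 0 := by
  rcases p with i | i
  · simp [pairVal]
  · simpa [pairVal] using Φ.eps_ne

theorem sigma_pairVal (p : Idx n) : Φ.σ (s p) = s p := by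
  rcases p with i | i <;> simp [pairVal, Φ.sigma_eps]

theorem pairVal_opp (p : Idx n) : s (opp p) = Φ.ε * s p := by
  rcases p with i | i <;> simp [pairVal, opp, Φ.eps_sq]

theorem pair_opp (p : Idx n) : Φ.B (V p) (V (opp p)) = s p := by simp [Φ.pairing]

theorem pair_opp' (p : Idx n) : Φ.B (V (opp p)) (V p) = s (opp p) := by simp [Φ.pairing]

theorem pair_zero {p q : Idx n} (h : q ≠ opp p) : Φ.B (V p) (V q) = 0 := by simp [Φ.pairing, h]

theorem z_ne (p : Idx n) : V p ≠ 0 := fun h => Φ.pairVal_ne p (by rw [← Φ.pair_opp, h, zero_left])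

theorem z_inj {p q : Idx n} {a : F} (h : V p = a • V q) : p = q := by
  by_contra hne
  have := congrArg (fun x => Φ.B x (V (opp p))) h
  simp only [Φ.smul_left, pair_opp] at this
  rw [Φ.pair_zero (fun e => hne (by simpa using congrArg opp e)), mul_zero] at this
  exact Φ.pairVal_ne p this

/-- `g` maps the frame line `p` onto the frame line `q`. -/
def Maps (g : G) (p q : Idx n) : Prop := ∃ a : F, a ≠ 0 ∧ Φ.v g (V p) = a • V q

theorem maps_one (p : Idx n) : Φ.Maps 1 p p := ⟨1, one_ne_zero, by simp⟩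

theorem Maps.trans {g h : G} {p q r : Idx n} (h1 : Φ.Maps h p q) (h2 : Φ.Maps g q r) :
    Φ.Maps (g * h) p r := by
  obtain ⟨a, ha, e⟩ := h1
  obtain ⟨b, hb, e'⟩ := h2
  exact ⟨a * b, mul_ne_zero ha hb, by rw [v_mul, e, v_smul, e', smul_smul]⟩

theorem Maps.inv {g : G} {p q : Idx n} (h : Φ.Maps g p q) : Φ.Maps g⁻¹ q p := by
  obtain ⟨a, ha, e⟩ := h
  refine ⟨a⁻¹, inv_ne_zero ha, ?_⟩
  have := congrArg (Φ.v g⁻¹) e
  rw [v_inv, v_smul] at this
  rw [this, smul_smul, inv_mul_cancel₀ ha, one_smul]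

theorem maps_far {g : G} {p q p' q' : Idx n} (hp : Φ.Maps g p p') (hq : Φ.Maps g q q') (h : Far p q) :
    Far p' q' := by
  obtain ⟨a, ha, e⟩ := hp
  obtain ⟨b, hb, e'⟩ := hq
  constructor
  · rintro rfl
    refine h.1 (Φ.z_inj (a := a⁻¹ * b) ?_).symm.symm
    have : Φ.v g (V q) = Φ.v g ((a⁻¹ * b) • V p) := by
      rw [v_smul, e, e', smul_smul, mul_comm a⁻¹ b, mul_assoc, inv_mul_cancel₀ ha, mul_one]
    simpa [v_inv] using congrArg (Φ.v g⁻¹) this
  · rintro rfl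
    have h0 := Φ.iso_v g (V p) (V q)
    rw [e, e', Φ.smul_left, Φ.smul_right, Φ.pair_opp, Φ.pair_zero h.2] at h0
    rcases mul_eq_zero.1 h0 with h1 | h1
    · exact ha h1
    rcases mul_eq_zero.1 h1 with h2 | h2
    · exact hb (by simpa [Φ.sigma_sigma] using congrArg Φ.σ h2)
    · exact Φ.pairVal_ne _ h2

/-- A vector perpendicular to the frame. -/
def Perp (x : ι → F) : Prop := ∀ p, Φ.B x (V p) = 0

/-- The component perpendicular to the frame. -/
def perpPart (x : ι → F) : ι → F := x - ∑ p, (Φ.B x (V (opp p)) / s p) • V p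

theorem perp_perpPart (x : ι → F) : Φ.Perp (Φ.perpPart x) := by
  intro q
  rw [perpPart, sub_left, sum_left, Finset.sum_eq_single (opp q)]
  · rw [Φ.smul_left, opp_opp, Φ.pairing, if_pos (opp_opp q).symm,
      div_mul_cancel₀ _ (Φ.pairVal_ne _), sub_self]
  · intro p _ hp
    rw [Φ.smul_left, Φ.pair_zero (fun e => hp (by rw [e, opp_opp])), mul_zero]
  · simp

theorem eq_frame_add_perp (x : ι → F) :
    x = (∑ p, (Φ.B x (V (opp p)) / s p) • V p) + Φ.perpPart x := by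
  rw [perpPart, add_sub_cancel]

/-- Elements agreeing on the frame and on its perpendicular space are equal. -/
theorem ext_frame {g h : G} (hz : ∀ p, Φ.v g (V p) = Φ.v h (V p))
    (hp : ∀ x, Φ.Perp x → Φ.v g x = Φ.v h x) : g = h := by
  refine Φ.ext_v fun x => ?_
  rw [Φ.eq_frame_add_perp x, v_add, v_add, hp _ (Φ.perp_perpPart x), v_sum, v_sum]
  simp [v_smul, hz]

theorem perp_map {g : G} (hg : ∀ q, ∃ p, Φ.Maps g p q) {x : ι → F} (hx : Φ.Perp x) : Φ.Perp (Φ.v g x) := by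
  intro q
  obtain ⟨p, a, ha, e⟩ := hg q
  have h := Φ.iso_v g x (V p)
  rw [hx p, e, Φ.smul_right, mul_eq_zero] at h
  exact h.resolve_left fun h1 => ha (by simpa [Φ.sigma_sigma] using congrArg Φ.σ h1)

/-! ### Pair root elements -/

theorem X_v {p q : Idx n} (h : Far p q) (t : F) (x : ι → F) :
    Φ.v (Φ.X p q t) x = x + (t * Φ.B x (V p)) • V q - (Φ.ε * Φ.σ t * Φ.B x (V q)) • V p :=
  Φ.X_act p q t x h

theorem X_add {p q : Idx n} (h : Far p q) (t t' : F) : Φ.X p q (t + t') = Φ.X p q t * Φ.X p q t' := by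
  refine Φ.ext_v fun x => ?_
  rw [v_mul, X_v _ h, X_v _ h t', X_v _ h t]
  simp only [sub_left, Φ.add_left, Φ.smul_left, Φ.pairing, if_neg h.2, if_neg h.symm.2,
    if_neg (opp_ne p).symm, if_neg (opp_ne q).symm, map_add]
  match_scalars <;> ring

theorem X_zero {p q : Idx n} (h : Far p q) : Φ.X p q 0 = 1 :=
  Φ.ext_v fun x => by simp [X_v _ h]

theorem X_neg {p q : Idx n} (h : Far p q) (t : F) : Φ.X p q (-t) = (Φ.X p q t)⁻¹ :=
  eq_inv_of_mul_eq_one_left (by rw [← Φ.X_add h, neg_add_cancel, Φ.X_zero h])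

theorem X_swap {p q : Idx n} (h : Far p q) (t : F) : Φ.X q p t = Φ.X p q (-(Φ.ε * Φ.σ t)) := by
  refine Φ.ext_v fun x => ?_
  rw [X_v _ h.symm, X_v _ h]
  simp only [map_neg, map_mul, Φ.sigma_sigma, Φ.sigma_eps]
  have := Φ.eps_sq
  match_scalars <;> first
    | ring1
    | linear_combination (t * Φ.B x (V q)) * this
    | linear_combination (-t * Φ.B x (V q)) * this

theorem X_perp {p q : Idx n} (h : Far p q) (t : F) {x : ι → F} (hx : Φ.Perp x) :
    Φ.v (Φ.X p q t) x = x := by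
  simp [X_v _ h, hx p, hx q]

theorem X_conj {g : G} {p q p' q' : Idx n} {a b : F} (h : Far p q) (h' : Far p' q')
    (hp : Φ.v g (V p) = a • V p') (hq : Φ.v g (V q) = b • V q') (t : F) :
    g * Φ.X p q t * g⁻¹ = Φ.X p' q' (Φ.σ a * b * t) := by
  refine Φ.ext_v fun x => ?_
  obtain ⟨y, rfl⟩ := Φ.v_surj g x
  rw [v_mul, v_mul, v_inv, X_v _ h, X_v _ h', v_sub, v_add, v_smul, v_smul, hp, hq, ← Φ.iso_v g y (V p),
    ← Φ.iso_v g y (V q), hp, hq, Φ.smul_right, Φ.smul_right]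
  simp only [map_mul, Φ.sigma_sigma]
  module

theorem X_comp {a b c : Idx n} (hab : Far a (opp b)) (hbc : Far b c) (hac : Far a c) (t r : F) :
    Φ.X a (opp b) r * Φ.X b c t * (Φ.X a (opp b) r)⁻¹ =
      Φ.X b c t * Φ.X a c (-(Φ.ε * r * s b * t)) := by
  have e1 : b ≠ opp a := fun e => by subst e; exact hab.1 (opp_opp a)
  have hgc : Φ.v (Φ.X a (opp b) r) (V c) = V c := by
    rw [X_v _ hab, Φ.pair_zero hac.symm.2, Φ.pair_zero (fun e => hbc.1 (by simpa using congrArg opp e.symm))]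
    simp
  have hgb : Φ.v (Φ.X a (opp b) r) (V b) = V b - (Φ.ε * Φ.σ r * s b) • V a := by
    rw [X_v _ hab, Φ.pair_opp, Φ.pair_zero (fun e => e1 (by rw [e, opp_opp]))]
    simp
  refine Φ.ext_v fun x => ?_
  obtain ⟨y, rfl⟩ := Φ.v_surj (Φ.X a (opp b) r) x
  have hb := Φ.iso_v (Φ.X a (opp b) r) y (V b)
  have hc := Φ.iso_v (Φ.X a (opp b) r) y (V c)
  rw [hgb] at hb
  rw [hgc] at hc
  simp only [v_mul, v_inv, X_v _ hbc, X_v _ hac, v_sub, v_add, v_smul, hgb, hgc, ← hb, ← hc]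
  generalize Φ.v (Φ.X a (opp b) r) y = x
  have hsub : ∀ u w : ι → F, Φ.B x (u - w) = Φ.B x u - Φ.B x w := fun u w => by
    have := Φ.add_right x (u - w) w
    rw [sub_add_cancel] at this
    rw [this, add_sub_cancel_right]
  have z1 : Φ.B (V c) (V b) = 0 := Φ.pair_zero hbc.symm.2
  have z2 : Φ.B (V a) (V b) = 0 := Φ.pair_zero e1
  have z3 : Φ.B (V c) (V c) = 0 := Φ.pair_zero (opp_ne c).symm
  have z4 : Φ.B (V a) (V c) = 0 := Φ.pair_zero hac.2
  simp only [hsub, Φ.smul_right, sub_left, Φ.add_left, Φ.smul_left, z1, z2, z3, z4, map_neg, map_mul,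
    Φ.sigma_sigma, Φ.sigma_eps, Φ.sigma_pairVal]
  module

/-! ### Roots inside a subgroup -/

/-- The whole root group of the pair lies in `S`. -/
def P (S : Subgroup G) (p q : Idx n) : Prop := ∀ t, Φ.X p q t ∈ S

theorem P_swap {S : Subgroup G} {p q : Idx n} (h : Far p q) (hP : Φ.P S p q) : Φ.P S q p := fun t => by
  rw [Φ.X_swap h]; exact hP _

theorem P_conj {S : Subgroup G} {g : G} (hg : g ∈ S) {p q p' q' : Idx n} (h : Far p q)
    (hp : Φ.Maps g p p') (hq : Φ.Maps g q q') (hP : Φ.P S p q) : Φ.P S p' q' := by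
  intro t
  have h' := Φ.maps_far hp hq h
  obtain ⟨a, ha, ea⟩ := hp
  obtain ⟨b, hb, eb⟩ := hq
  have := S.mul_mem (S.mul_mem hg (hP (t / (Φ.σ a * b)))) (S.inv_mem hg)
  have hne : Φ.σ a * b ≠ 0 :=
    mul_ne_zero (fun e => ha (by simpa [Φ.sigma_sigma] using congrArg Φ.σ e)) hb
  rwa [Φ.X_conj h h' ea eb, mul_div_cancel₀ _ hne] at this

theorem P_comp {S : Subgroup G} {a b c : Idx n} (hab : Far a (opp b)) (hbc : Far b c) (hac : Far a c)
    (h1 : Φ.P S a (opp b)) (h2 : Φ.P S b c) : Φ.P S a c := by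
  intro u
  have hr : -(Φ.ε * s b) ≠ 0 := neg_ne_zero.2 (mul_ne_zero Φ.eps_ne (Φ.pairVal_ne b))
  have h := S.mul_mem (S.inv_mem (h2 1))
    (S.mul_mem (S.mul_mem (h1 (u / -(Φ.ε * s b))) (h2 1)) (S.inv_mem (h1 (u / -(Φ.ε * s b)))))
  rw [Φ.X_comp hab hbc hac, inv_mul_cancel_left] at h
  convert h using 2
  field_simp [Φ.eps_ne, Φ.pairVal_ne b]

/-- The parameters of one root group inside a subgroup. -/
def param (S : Subgroup G) {p q : Idx n} (h : Far p q) : AddSubgroup F where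
  carrier := {t | Φ.X p q t ∈ S}
  zero_mem' := by simp [Φ.X_zero h]
  add_mem' {a b} ha hb := by simpa [Φ.X_add h] using S.mul_mem ha hb
  neg_mem' {a} ha := by simpa [Φ.X_neg h] using S.inv_mem ha

theorem param_scale {S : Subgroup G} {p q : Idx n} (h : Far p q) {g : G} (hg : g ∈ S) {a b : F}
    (hp : Φ.v g (V p) = a • V p) (hq : Φ.v g (V q) = b • V q) {t : F} (ht : t ∈ Φ.param S h) :
    Φ.σ a * b * t ∈ Φ.param S h := by
  have := S.mul_mem (S.mul_mem hg ht) (S.inv_mem hg)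
  rwa [Φ.X_conj h h hp hq] at this

/-! ### Monomial elements -/

/-- The element `z_r ↦ z_r + c z_p`. -/
def up (p r : Idx n) (c : F) : G := Φ.X p (opp r) (-(Φ.ε * Φ.σ (c / s r)))

/-- The companion coefficient of `up`. -/
def upCo (p r : Idx n) (c : F) : F := -(Φ.σ c * s p / s r)

theorem up_self {p r : Idx n} (h : Far p r) (c : F) : Φ.v (Φ.up p r c) (V r) = V r + c • V p := by
  rw [up, X_v _ h.oppR, Φ.pair_opp, Φ.pair_zero h.symm.2]
  simp only [map_neg, map_mul, Φ.sigma_eps, Φ.sigma_sigma]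
  have := Φ.eps_sq
  have := Φ.pairVal_ne r
  match_scalars
  · ring
  · ring
  · field_simp
    linear_combination c * Φ.eps_sq

theorem up_opp {p r : Idx n} (h : Far p r) (c : F) :
    Φ.v (Φ.up p r c) (V (opp p)) = V (opp p) + Φ.upCo p r c • V (opp r) := by
  rw [up, upCo, X_v _ h.oppR, Φ.pair_opp', Φ.pairVal_opp,
    Φ.pair_zero (by rw [opp_opp]; exact h.oppR.1)]
  simp only [map_div₀, Φ.sigma_pairVal]
  have := Φ.pairVal_ne r
  match_scalars
  · ring
  · field_simp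
    linear_combination (-(Φ.σ c * s p)) * Φ.eps_sq
  · ring

theorem up_fix {p r w : Idx n} (h : Far p r) (c : F) (h1 : w ≠ r) (h2 : w ≠ opp p) :
    Φ.v (Φ.up p r c) (V w) = V w := by
  rw [up, X_v _ h.oppR, Φ.pair_zero (fun e => h2 (by rw [e, opp_opp])),
    Φ.pair_zero (fun e => h1 (by simpa using congrArg opp e.symm))]
  simp

/-- The Weyl element of a pair root. -/
def W (p r : Idx n) (c : F) : G := Φ.up p r c * Φ.up r p (-c⁻¹) * Φ.up p r c

theorem W_right {p r : Idx n} (h : Far p r) {c : F} (hc : c ≠ 0) : Φ.v (Φ.W p r c) (V r) = c • V p := by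
  rw [W, v_mul, v_mul, Φ.up_self h, v_add, v_smul, Φ.up_fix h.symm _ h.1 (opp_ne r).symm,
    Φ.up_self h.symm]
  simp only [v_add, v_smul, Φ.up_self h, Φ.up_fix h c h.1.symm (opp_ne p).symm]
  match_scalars <;> field_simp <;> ring

theorem W_left {p r : Idx n} (h : Far p r) {c : F} (hc : c ≠ 0) :
    Φ.v (Φ.W p r c) (V p) = (-c⁻¹) • V r := by
  rw [W, v_mul, v_mul, Φ.up_fix h c h.1.symm (opp_ne p).symm, Φ.up_self h.symm]
  simp only [v_add, v_smul, Φ.up_self h, Φ.up_fix h c h.1.symm (opp_ne p).symm]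
  match_scalars <;> field_simp <;> ring

theorem upCo_mul {p r : Idx n} {c : F} (hc : c ≠ 0) :
    Φ.upCo p r c * Φ.upCo r p (-c⁻¹) = -1 := by
  have := Φ.pairVal_ne r
  have := Φ.pairVal_ne p
  have : Φ.σ c ≠ 0 := fun e => hc (by simpa [Φ.sigma_sigma] using congrArg Φ.σ e)
  simp only [upCo, map_neg, map_inv₀]
  field_simp

theorem W_opp_left {p r : Idx n} (h : Far p r) {c : F} (hc : c ≠ 0) :
    Φ.v (Φ.W p r c) (V (opp p)) = Φ.upCo p r c • V (opp r) := by
  have e1 : ∀ d, Φ.v (Φ.up r p d) (V (opp p)) = V (opp p) := fun d =>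
    Φ.up_fix h.symm d (opp_ne p) (fun e => h.1 (by simpa using congrArg opp e.symm))
  have e2 : Φ.v (Φ.up p r c) (V (opp r)) = V (opp r) :=
    Φ.up_fix h c (opp_ne r) (fun e => h.1 (by simpa using congrArg opp e))
  rw [W, v_mul, v_mul, Φ.up_opp h]
  simp only [v_add, v_smul, e1, Φ.up_opp h.symm, e2, Φ.up_opp h]
  have := Φ.upCo_mul (p := p) (r := r) hc
  match_scalars
  · linear_combination this
  · linear_combination Φ.upCo p r c * this

theorem W_opp_right {p r : Idx n} (h : Far p r) {c : F} (hc : c ≠ 0) :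
    Φ.v (Φ.W p r c) (V (opp r)) = Φ.upCo r p (-c⁻¹) • V (opp p) := by
  have e2 : Φ.v (Φ.up p r c) (V (opp r)) = V (opp r) :=
    Φ.up_fix h c (opp_ne r) (fun e => h.1 (by simpa using congrArg opp e))
  rw [W, v_mul, v_mul, e2, Φ.up_opp h.symm]
  simp only [v_add, v_smul, e2, Φ.up_opp h]
  have := Φ.upCo_mul (p := p) (r := r) hc
  match_scalars
  · linear_combination this
  · ring

theorem W_fix {p r w : Idx n} (h : Far p r) (c : F) (h1 : w ≠ p) (h2 : w ≠ r) (h3 : w ≠ opp p)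
    (h4 : w ≠ opp r) : Φ.v (Φ.W p r c) (V w) = V w := by
  rw [W, v_mul, v_mul, Φ.up_fix h c h2 h3, Φ.up_fix h.symm _ h1 h4, Φ.up_fix h c h2 h3]

theorem W_perp {p r : Idx n} (h : Far p r) (c : F) {x : ι → F} (hx : Φ.Perp x) :
    Φ.v (Φ.W p r c) x = x := by
  simp only [W, up, v_mul, Φ.X_perp h.oppR _ hx, Φ.X_perp h.symm.oppR _ hx]

/-- The torus element of a pair root. -/
def H (p r : Idx n) (c : F) : G := Φ.W p r c * (Φ.W p r 1)⁻¹

theorem H_left {p r : Idx n} (h : Far p r) {c : F} (hc : c ≠ 0) : Φ.v (Φ.H p r c) (V p) = c • V p := by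
  have e : Φ.v (Φ.W p r 1) (V r) = V p := by rw [Φ.W_right h one_ne_zero, one_smul]
  rw [H, v_mul, ← e, v_inv, Φ.W_right h hc, e]

theorem H_right {p r : Idx n} (h : Far p r) {c : F} (hc : c ≠ 0) :
    Φ.v (Φ.H p r c) (V r) = c⁻¹ • V r := by
  have e : Φ.v (Φ.W p r 1) ((-1 : F) • V p) = V r := by
    rw [v_smul, Φ.W_left h one_ne_zero, smul_smul]; simp
  rw [H, v_mul]
  conv_lhs => rw [← e, v_inv, v_smul, Φ.W_left h hc, smul_smul]
  simp

theorem H_opp_left {p r : Idx n} (h : Far p r) {c : F} (hc : c ≠ 0) :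
    Φ.v (Φ.H p r c) (V (opp p)) = (Φ.σ c)⁻¹ • V (opp p) := by
  have hne : Φ.upCo r p (-(1 : F)⁻¹) ≠ 0 := right_ne_zero_of_mul (a := Φ.upCo p r 1)
    (by rw [Φ.upCo_mul one_ne_zero]; simp)
  have e : Φ.v (Φ.W p r 1) ((Φ.upCo r p (-(1 : F)⁻¹))⁻¹ • V (opp r)) = V (opp p) := by
    rw [v_smul, Φ.W_opp_right h one_ne_zero, smul_smul, inv_mul_cancel₀ hne, one_smul]
  rw [H, v_mul]
  conv_lhs => rw [← e, v_inv, v_smul, Φ.W_opp_right h hc, smul_smul]
  congr 1
  have := Φ.pairVal_ne r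
  have := Φ.pairVal_ne p
  have : Φ.σ c ≠ 0 := fun e => hc (by simpa [Φ.sigma_sigma] using congrArg Φ.σ e)
  simp only [upCo, map_neg, map_inv₀, map_one]
  field_simp

theorem H_opp_right {p r : Idx n} (h : Far p r) {c : F} (hc : c ≠ 0) :
    Φ.v (Φ.H p r c) (V (opp r)) = Φ.σ c • V (opp r) := by
  have hne : Φ.upCo p r 1 ≠ 0 := left_ne_zero_of_mul (b := Φ.upCo r p (-(1 : F)⁻¹))
    (by rw [Φ.upCo_mul one_ne_zero]; simp)
  have e : Φ.v (Φ.W p r 1) ((Φ.upCo p r 1)⁻¹ • V (opp p)) = V (opp r) := by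
    rw [v_smul, Φ.W_opp_left h one_ne_zero, smul_smul, inv_mul_cancel₀ hne, one_smul]
  rw [H, v_mul]
  conv_lhs => rw [← e, v_inv, v_smul, Φ.W_opp_left h hc, smul_smul]
  congr 1
  have := Φ.pairVal_ne r
  have := Φ.pairVal_ne p
  simp only [upCo, map_one]
  field_simp

theorem H_fix {p r w : Idx n} (h : Far p r) (c : F) (h1 : w ≠ p) (h2 : w ≠ r) (h3 : w ≠ opp p)
    (h4 : w ≠ opp r) : Φ.v (Φ.H p r c) (V w) = V w := by
  rw [H, v_mul]
  conv_lhs => rw [← Φ.W_fix h 1 h1 h2 h3 h4, v_inv, Φ.W_fix h c h1 h2 h3 h4]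

theorem H_perp {p r : Idx n} (h : Far p r) (c : F) {x : ι → F} (hx : Φ.Perp x) :
    Φ.v (Φ.H p r c) x = x := by
  rw [H, v_mul]
  conv_lhs => rw [← Φ.W_perp h 1 hx, v_inv, Φ.W_perp h c hx]

end Frame

end CfsgLib.TwoGenClassical
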